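import Groth.Agent.DenseFinite.Ring
import Groth.Agent.GenFibre.Scheme

/-!
A quasi-finite morphism is finite over a dense open of the target.
-/

set_option autoImplicit false
set_option backward.isDefEq.respectTransparency false

universe u

open CategoryTheory AlgebraicGeometry TopologicalSpace

namespace Groth.Agent.DenseFinite

/-- The functions whose nonvanishing locus lies in a given open. -/
def vanishingOff {Z : Scheme.{u}} (W : Z.Opens) : Ideal Γ(Z, ⊤) where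
  carrier := {g | Z.basicOpen g ≤ W}
  zero_mem' := by simp [Scheme.basicOpen_zero]
  add_mem' := fun {g g'} hg hg' x hx => by
    have h := (Z.mem_basicOpen (g + g') x trivial).1 hx
    rw [map_add] at h
    rcases IsLocalRing.isUnit_or_isUnit_of_isUnit_add h with h | h
    · exact hg ((Z.mem_basicOpen g x trivial).2 h)
    · exact hg' ((Z.mem_basicOpen g' x trivial).2 h)
  smul_mem' := fun r g hg => by
    change Z.basicOpen (r * g) ≤ W
    rw [Scheme.basicOpen_mul]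
    exact inf_le_right.trans hg

variable {Z T : Scheme.{u}}

theorem exists_isCompact_inf_of_finite [IsAffine T] [Nonempty T] (h : Z ⟶ T) [IsFinite h] (W : Z.Opens) :
    ∃ N : T.Opens, IsAffineOpen N ∧ (N : Set T).Nonempty ∧ IsCompact ((W ⊓ h ⁻¹ᵁ N : Z.Opens) : Set Z) := by
  haveI : IsAffine Z := isAffine_of_isAffineHom h
  haveI : Nontrivial Γ(T, ⊤) := (T.isoSpec.hom (Classical.arbitrary T)).nontrivial
  algebraize [h.appTop.hom]
  haveI : Module.Finite Γ(T, ⊤) Γ(Z, ⊤) := h.finite_appTop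
  obtain ⟨a, ha, s, hs, hP⟩ := exists_finite_zeroLocus (A := Γ(T, ⊤)) (vanishingOff W)
  refine ⟨T.basicOpen a, (isAffineOpen_top T).basicOpen a, ?_, ?_⟩
  · rw [Set.nonempty_iff_ne_empty]
    intro e
    have e' : T.basicOpen a = ⊥ := Opens.ext e
    exact ha ((Scheme.isNilpotent_iff_basicOpen_eq_bot_of_isCompact isCompact_univ a).2 e')
  · have heq : ((W ⊓ h ⁻¹ᵁ T.basicOpen a : Z.Opens) : Set Z) =
        ⋃ g ∈ s, (Z.basicOpen (g * h.appTop a) : Set Z) := by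
      ext z
      simp only [Set.mem_iUnion, exists_prop, SetLike.mem_coe]
      refine ⟨fun ⟨hzW, hza⟩ => ?_, fun ⟨g, hg, hz⟩ => ?_⟩
      · obtain ⟨f₀, hf₀W, hzf₀⟩ := (isAffineOpen_top Z).exists_basicOpen_le (V := W) ⟨z, hzW⟩ trivial
        let P : Ideal Γ(Z, ⊤) := (IsLocalRing.maximalIdeal (Z.presheaf.stalk z)).comap (Z.presheaf.germ ⊤ z trivial).hom
        haveI : P.IsPrime := Ideal.IsPrime.comap _
        have hmem : ∀ g : Γ(Z, ⊤), g ∈ P ↔ z ∉ Z.basicOpen g := fun g => by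
          rw [Z.mem_basicOpen g z trivial]; exact Iff.rfl
        have haP : z ∈ Z.basicOpen (h.appTop a) := by
          have : z ∈ h ⁻¹ᵁ T.basicOpen a := hza
          rwa [Scheme.preimage_basicOpen] at this
        have hnot : ¬ (↑s : Set Γ(Z, ⊤)) ⊆ P := fun hsP =>
          (hmem f₀).1 (hP P inferInstance (fun hh => (hmem _).1 hh haP) hsP hf₀W) hzf₀
        obtain ⟨g, hg, hgP⟩ := Set.not_subset.1 hnot
        refine ⟨g, hg, ?_⟩
        rw [Scheme.basicOpen_mul]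
        exact ⟨not_not.1 (mt (hmem g).2 hgP), haP⟩
      · rw [Scheme.basicOpen_mul] at hz
        refine ⟨hs hg hz.1, ?_⟩
        show z ∈ h ⁻¹ᵁ T.basicOpen a
        rw [Scheme.preimage_basicOpen]
        exact hz.2
    rw [heq]
    exact s.finite_toSet.isCompact_biUnion fun g _ => ((isAffineOpen_top Z).basicOpen _).isCompact

variable {X Y : Scheme.{u}} (f : Y ⟶ X)

/-- Near a suitable point of any nonempty open, the overlap of an affine piece finite over the base with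
another open is quasi-compact. -/
theorem exists_isCompact_overlap {V : X.Opens} {U : Y.Opens} (e : U ≤ f ⁻¹ᵁ V) [IsFinite (f.resLE V U e)]
    (W : Y.Opens) {V' : X.Opens} (hV' : IsAffineOpen V') (hne : (V' : Set X).Nonempty) (hle : V' ≤ V) :
    ∃ N : X.Opens, IsAffineOpen N ∧ (N : Set X).Nonempty ∧ N ≤ V' ∧
      IsCompact ((U ⊓ W ⊓ f ⁻¹ᵁ N : Y.Opens) : Set Y) := by
  let g := f.resLE V U e
  let V'' : V.toScheme.Opens := V.ι ⁻¹ᵁ V'
  have hV'' : IsAffineOpen V'' := hV'.preimage_of_isOpenImmersion V.ι (by rwa [Scheme.Opens.opensRange_ι])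
  haveI : IsAffine V''.toScheme := hV''
  haveI : Nonempty V''.toScheme := by
    obtain ⟨x, hx⟩ := hne
    exact ⟨⟨⟨x, hle hx⟩, hx⟩⟩
  let Z := (g ⁻¹ᵁ V'').toScheme
  let j : Z ⟶ Y := (g ⁻¹ᵁ V'').ι ≫ U.ι
  let k : V''.toScheme ⟶ X := V''.ι ≫ V.ι
  have hjk : ∀ z, f (j z) = k ((g ∣_ V'') z) := fun z => by
    show f (U.ι z.1) = V.ι (V''.ι ((g ∣_ V'') z))
    rw [← Scheme.Hom.comp_apply (g ∣_ V'') V''.ι, morphismRestrict_ι]
    exact (f.coe_resLE_apply (e := e) z.1).symm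
  obtain ⟨N, hN, hNne, hc⟩ := exists_isCompact_inf_of_finite (g ∣_ V'') (j ⁻¹ᵁ W)
  refine ⟨k ''ᵁ N, hN.image_of_isOpenImmersion k, hNne.image k, ?_, ?_⟩
  · rintro _ ⟨z, -, rfl⟩
    exact z.2
  · convert hc.image j.continuous using 1
    ext y
    constructor
    · rintro ⟨⟨hyU, hyW⟩, n, hn, hny⟩
      have hg : V.ι (g ⟨y, hyU⟩) = f y := f.coe_resLE_apply (e := e) ⟨y, hyU⟩
      have hz : (⟨y, hyU⟩ : U.toScheme) ∈ g ⁻¹ᵁ V'' := by
        show V.ι (g ⟨y, hyU⟩) ∈ V'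
        rw [hg, ← hny]
        exact n.2
      refine ⟨⟨⟨y, hyU⟩, hz⟩, ⟨hyW, ?_⟩, rfl⟩
      show (g ∣_ V'') ⟨⟨y, hyU⟩, hz⟩ ∈ N
      have : (g ∣_ V'') ⟨⟨y, hyU⟩, hz⟩ = n := k.isOpenEmbedding.injective ((hjk ⟨⟨y, hyU⟩, hz⟩).symm.trans hny.symm)
      rw [this]
      exact hn
    · rintro ⟨z, ⟨hzW, hzN⟩, rfl⟩
      exact ⟨⟨z.1.2, hzW⟩, _, hzN, (hjk z).symm⟩

/-- An affine piece over an affine open is finite over a nonempty smaller one. -/
theorem exists_isFinite_piece [LocallyQuasiFinite f] [LocallyOfFiniteType f] {V : X.Opens} (hV : IsAffineOpen V)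
    {U : Y.Opens} (hU : IsAffineOpen U) (e : U ≤ f ⁻¹ᵁ V) (η : V.toScheme) (hη : Unibranch.IsMaxPt η) :
    ∃ V₁ : V.toScheme.Opens, IsAffineOpen V₁ ∧ η ∈ V₁ ∧ IsFinite ((f.resLE V U e) ∣_ V₁) := by
  haveI : IsAffine V.toScheme := hV
  haveI : IsAffine U.toScheme := hU
  haveI : LocallyOfFiniteType (f.resLE V U e) := inferInstance
  exact GenFibre.exists_finite_nhd (f.resLE V U e) hη ((f.resLE V U e).finite_preimage_singleton η)

theorem exists_isFinite_restrict [LocallyQuasiFinite f] [LocallyOfFiniteType f] [QuasiCompact f]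
    {O : X.Opens} (hO : (O : Set X).Nonempty) :
    ∃ V : X.Opens, V ≤ O ∧ (V : Set X).Nonempty ∧ IsFinite (f ∣_ V) := by
  classical
  obtain ⟨x, hx⟩ := hO
  obtain ⟨V, hV, hxV, hVO⟩ := exists_isAffineOpen_mem_and_subset (X := X) (x := x) (U := O) hx
  choose U hU hyU hUV using fun y : (f ⁻¹ᵁ V : Set Y) =>
    exists_isAffineOpen_mem_and_subset (X := Y) (x := y.1) (U := f ⁻¹ᵁ V) y.2
  obtain ⟨t, ht⟩ := (f.isCompact_preimage hV.isCompact).elim_finite_subcover (fun y => (U y : Set Y))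
    (fun y => (U y).2) (fun y hy => Set.mem_iUnion.2 ⟨⟨y, hy⟩, hyU _⟩)
  -- all pieces finite over a common affine neighbourhood of a maximal point
  obtain ⟨η, hη, -⟩ := Unibranch.exists_isMaxPt_specializes (X := V.toScheme) ⟨x, hxV⟩
  choose V₁ hV₁ hη₁ hfin using fun y : t => exists_isFinite_piece f hV (hU y.1) (hUV y.1) η hη
  obtain ⟨N₁, hN₁, hηN, hN₁le⟩ := exists_isAffineOpen_mem_and_subset (X := V.toScheme) (x := η)
    (U := ⟨⋂ y : t, (V₁ y : Set V.toScheme), isOpen_iInter_of_finite fun y => (V₁ y).2⟩)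
    (Set.mem_iInter.2 hη₁)
  let P := V.ι ''ᵁ N₁
  have hP : IsAffineOpen P := hN₁.image_of_isOpenImmersion V.ι
  have hfinP : ∀ (y : t), IsFinite (f.resLE P (U y.1 ⊓ f ⁻¹ᵁ P) inf_le_right) := fun y => by
    let g := f.resLE V (U y.1) (hUV y.1)
    have h1 : N₁ ≤ V₁ y := fun z hz => Set.mem_iInter.1 (hN₁le hz) y
    haveI := hfin y
    haveI : IsFinite (g ∣_ N₁) := by
      have h2 : IsFinite ((g ∣_ V₁ y) ∣_ ((V₁ y).ι ⁻¹ᵁ N₁)) := inferInstance
      refine ((MorphismProperty.arrow_mk_iso_iff @IsFinite (morphismRestrictRestrict g (V₁ y) _)).1 h2) |> fun h => ?_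
      rwa [Scheme.Hom.image_preimage_eq_opensRange_inf, Scheme.Opens.opensRange_ι, inf_eq_right.2 h1] at h
    have himg : (U y.1).ι ''ᵁ (g ⁻¹ᵁ N₁) = U y.1 ⊓ f ⁻¹ᵁ P := by
      ext z
      constructor
      · rintro ⟨w, hw, rfl⟩
        exact ⟨w.2, _, hw, f.coe_resLE_apply (e := hUV y.1) w⟩
      · rintro ⟨hz, n, hn, hnz⟩
        refine ⟨⟨z, hz⟩, ?_, rfl⟩
        show g ⟨z, hz⟩ ∈ N₁
        have : g ⟨z, hz⟩ = n := V.ι.isOpenEmbedding.injective ((f.coe_resLE_apply (e := hUV y.1) ⟨z, hz⟩).trans hnz.symm)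
        rw [this]; exact hn
    let a : (g ⁻¹ᵁ N₁).toScheme ≅ (U y.1 ⊓ f ⁻¹ᵁ P).toScheme :=
      (U y.1).ι.isoImage (g ⁻¹ᵁ N₁) ≪≫ Y.isoOfEq himg
    let b : N₁.toScheme ≅ P.toScheme := V.ι.isoImage N₁
    have hcomp : (g ∣_ N₁) ≫ b.hom = a.hom ≫ f.resLE P (U y.1 ⊓ f ⁻¹ᵁ P) inf_le_right := by
      rw [← cancel_mono P.ι]
      simp [a, b, g, Scheme.Hom.resLE_comp_ι, morphismRestrict_ι_assoc]
      show _ ≫ (V.ι.isoImage N₁).hom ≫ (V.ι ''ᵁ N₁).ι = _
      rw [Scheme.Hom.isoImage_hom_ι, ← Category.assoc, morphismRestrict_ι, Category.assoc, Scheme.Hom.resLE_comp_ι]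
    exact (MorphismProperty.arrow_mk_iso_iff @IsFinite (Arrow.isoMk a b hcomp.symm)).1 ‹_›
  -- pairwise quasi-compact overlaps
  have hpair : ∀ S : Finset (t × t), ∃ N : X.Opens, IsAffineOpen N ∧ (N : Set X).Nonempty ∧ N ≤ P ∧
      ∀ p ∈ S, IsCompact ((U p.1.1 ⊓ U p.2.1 ⊓ f ⁻¹ᵁ N : Y.Opens) : Set Y) := fun S => by
    induction S using Finset.induction with
    | empty => exact ⟨P, hP, ⟨V.ι η, η, hηN, rfl⟩, le_rfl, fun p hp => absurd hp (Finset.notMem_empty p)⟩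
    | insert p S hpS ih =>
      obtain ⟨N, hN, hNne, hNP, hNS⟩ := ih
      haveI := hfinP p.1
      obtain ⟨N', hN', hN'ne, hN'N, hc⟩ := exists_isCompact_overlap f (V := P)
        (U := U p.1.1 ⊓ f ⁻¹ᵁ P) inf_le_right (U p.2.1) hN hNne hNP
      refine ⟨N', hN', hN'ne, hN'N.trans hNP, fun q hq => ?_⟩
      rcases Finset.mem_insert.1 hq with rfl | hq
      · convert hc using 1
        ext z
        exact ⟨fun h => ⟨⟨⟨h.1.1, hNP (hN'N h.2)⟩, h.1.2⟩, h.2⟩, fun h => ⟨⟨h.1.1.1, h.1.2⟩, h.2⟩⟩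
      · haveI := hfinP q.1
        let g := f.resLE P (U q.1.1 ⊓ f ⁻¹ᵁ P) inf_le_right
        have hq2 : IsAffineOpen (U q.1.1 ⊓ f ⁻¹ᵁ P) := by
          haveI : IsAffine P.toScheme := hP
          exact isAffine_of_isAffineHom g
        have hA : IsCompact ((U q.1.1 ⊓ f ⁻¹ᵁ N' : Y.Opens) : Set Y) := by
          have h1 := ((hN'.preimage_of_isOpenImmersion P.ι
            (by rw [Scheme.Opens.opensRange_ι]; exact hN'N.trans hNP)).preimage g).image_of_isOpenImmersion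
            (U q.1.1 ⊓ f ⁻¹ᵁ P).ι
          convert h1.isCompact using 1
          ext z
          refine ⟨fun hz => ⟨⟨z, hz.1, hN'N.trans hNP hz.2⟩, ?_, rfl⟩, fun ⟨w, hw, hwz⟩ => ?_⟩
          · show (g _).1 ∈ N'
            rw [f.coe_resLE_apply]
            exact hz.2
          · subst hwz
            refine ⟨w.2.1, ?_⟩
            have hw' : (g w).1 ∈ N' := hw
            rw [f.coe_resLE_apply] at hw'
            exact hw'
        convert hq2.isQuasiSeparated _ _ (fun z hz => ⟨hz.1.1, hNP hz.2⟩) (U q.1.1 ⊓ U q.2.1 ⊓ f ⁻¹ᵁ N).2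
          (hNS q hq) (fun z hz => ⟨hz.1, hN'N.trans hNP hz.2⟩) (U q.1.1 ⊓ f ⁻¹ᵁ N').2 hA using 1
        ext z
        exact ⟨fun h => ⟨⟨h.1, hN'N h.2⟩, h.1.1, h.2⟩, fun h => ⟨h.1.1, h.2.2⟩⟩
  obtain ⟨N, hN, hNne, hNP, hNc⟩ := hpair Finset.univ
  haveI : IsAffine N.toScheme := hN
  have hNV : N ≤ V := hNP.trans fun _ ⟨w, _, hw⟩ => hw ▸ w.2
  haveI : QuasiSeparatedSpace (f ⁻¹ᵁ N).toScheme := by
    refine Scheme.quasiSeparatedSpace_of_isOpenCover (fun y : t => (f ⁻¹ᵁ N).ι ⁻¹ᵁ (U y.1 ⊓ f ⁻¹ᵁ N)) ?_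
      (fun y => ?_) (fun y y' => ?_)
    · refine IsOpenCover.mk (top_le_iff.1 fun z _ => ?_)
      obtain ⟨y, hy, hzy⟩ := Set.mem_iUnion₂.1 (ht (hNV z.2))
      exact Opens.mem_iSup.2 ⟨⟨y, hy⟩, hzy, z.2⟩
    · haveI := hfinP y
      let g := f.resLE P (U y.1 ⊓ f ⁻¹ᵁ P) inf_le_right
      refine IsAffineOpen.preimage_of_isOpenImmersion ?_ _ (by rw [Scheme.Opens.opensRange_ι]; exact inf_le_right)
      have h1 := ((hN.preimage_of_isOpenImmersion P.ι
        (by rw [Scheme.Opens.opensRange_ι]; exact hNP)).preimage g).image_of_isOpenImmersion (U y.1 ⊓ f ⁻¹ᵁ P).ι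
      convert h1 using 1
      ext z
      refine ⟨fun hz => ⟨⟨z, hz.1, hNP hz.2⟩, ?_, rfl⟩, fun ⟨w, hw, hwz⟩ => ?_⟩
      · show (g _).1 ∈ N
        rw [f.coe_resLE_apply]
        exact hz.2
      · subst hwz
        refine ⟨w.2.1, ?_⟩
        have hw' : (g w).1 ∈ N := hw
        rw [f.coe_resLE_apply] at hw'
        exact hw'
    · rw [(f ⁻¹ᵁ N).ι.isOpenEmbedding.isEmbedding.isCompact_iff]
      convert hNc (y, y') (Finset.mem_univ _) using 1
      ext z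
      exact ⟨fun ⟨w, hw, hwz⟩ => hwz ▸ ⟨⟨hw.1.1, hw.2.1⟩, w.2⟩, fun h => ⟨⟨z, h.2⟩, ⟨⟨h.1.1, h.2⟩, h.1.2, h.2⟩, rfl⟩⟩
  haveI : QuasiSeparated (f ∣_ N) := inferInstance
  haveI : Nonempty N.toScheme := hNne.to_subtype
  obtain ⟨η', hη', -⟩ := Unibranch.exists_isMaxPt_specializes (X := N.toScheme) (Classical.arbitrary _)
  obtain ⟨M, -, hηM, hMfin⟩ := GenFibre.exists_finite_nhd (f ∣_ N) hη' ((f ∣_ N).finite_preimage_singleton η')
  refine ⟨N.ι ''ᵁ M, fun z hz => hVO (hNV ?_), ⟨N.ι η', η', hηM, rfl⟩, ?_⟩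
  · obtain ⟨w, -, rfl⟩ := hz
    exact w.2
  · exact (MorphismProperty.arrow_mk_iso_iff @IsFinite (morphismRestrictRestrict f N M)).1 hMfin

theorem exists_dense_isFinite_restrict [LocallyQuasiFinite f] [LocallyOfFiniteType f] [QuasiCompact f] :
    ∃ U : X.Opens, Dense (U : Set X) ∧ IsFinite (f ∣_ U) := by
  let S := {V : X.Opens // IsFinite (f ∣_ V)}
  refine ⟨⨆ V : S, V.1, dense_iff_inter_open.2 fun O hO hne => ?_, ?_⟩
  · obtain ⟨V, hVO, ⟨x, hx⟩, hV⟩ := exists_isFinite_restrict f (O := ⟨O, hO⟩) hne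
    exact ⟨x, hVO hx, Opens.mem_iSup.2 ⟨⟨V, hV⟩, hx⟩⟩
  · let U : X.Opens := ⨆ V : S, V.1
    refine IsZariskiLocalAtTarget.of_iSup_eq_top (P := @IsFinite) (fun V : S => U.ι ⁻¹ᵁ V.1) ?_ fun V => ?_
    · refine top_le_iff.1 fun z _ => ?_
      obtain ⟨V, hV⟩ := Opens.mem_iSup.1 z.2
      exact Opens.mem_iSup.2 ⟨V, hV⟩
    · refine (MorphismProperty.arrow_mk_iso_iff @IsFinite (morphismRestrictRestrict f U _)).2 ?_
      rw [Scheme.Hom.image_preimage_eq_opensRange_inf, Scheme.Opens.opensRange_ι, inf_eq_right.2 (le_iSup (fun V : S => V.1) V)]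
      exact V.2

end Groth.Agent.DenseFinite
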