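import Mathlib.RingTheory.Ideal.Operations
import Mathlib.RingTheory.Finiteness.Basic
import Mathlib.RingTheory.Nilpotent.Basic
import Mathlib.Algebra.BigOperators.Fin

/-!
On a finite algebra, every closed set becomes cut out by finitely many equations over a nonempty
basic open of the base.
-/

set_option autoImplicit false

universe u

namespace Groth.Agent.DenseFinite

variable {A B : Type u} [CommRing A] [CommRing B] [Algebra A B] [Module.Finite A B]

/-- For an ideal `J` of a finite algebra over a nonzero ring, after inverting some non-nilpotent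
element of the base finitely many elements of `J` have the same zero set. -/
theorem exists_finite_zeroLocus [Nontrivial A] (J : Ideal B) :
    ∃ a : A, ¬ IsNilpotent a ∧ ∃ s : Finset B, (↑s : Set B) ⊆ J ∧
      ∀ P : Ideal B, P.IsPrime → algebraMap A B a ∉ P → (↑s : Set B) ⊆ P → J ≤ P := by
  classical
  -- an element over which the quotient needs as few generators as possible
  let Gen : ℕ → Prop := fun r => ∃ (a : A) (m : Fin r → B), ¬ IsNilpotent a ∧
    ∀ b : B, ∃ (k : ℕ) (c : Fin r → A), a ^ k • b - ∑ i, c i • m i ∈ J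
  have hex : ∃ r, Gen r := by
    obtain ⟨r, m, hm⟩ := Module.Finite.exists_fin (R := A) (M := B)
    refine ⟨r, 1, m, not_isNilpotent_one, fun b => ?_⟩
    obtain ⟨c, hc⟩ := (Submodule.mem_span_range_iff_exists_fun A).1 (hm.ge (Submodule.mem_top (x := b)))
    exact ⟨0, c, by rw [pow_zero, one_smul, hc, sub_self]; exact J.zero_mem⟩
  obtain ⟨a, m, ha, hm⟩ := Nat.find_spec hex
  have hrel : ∀ c : Fin (Nat.find hex) → A, ∑ i, c i • m i ∈ J → ∀ i, IsNilpotent (a * c i) := by
    intro c hc j
    by_contra hj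
    have hlt : Nat.find hex - 1 < Nat.find hex := Nat.sub_lt (Fin.pos j) one_pos
    refine Nat.find_min hex hlt ?_
    have e : Nat.find hex - 1 + 1 = Nat.find hex := Nat.sub_add_cancel (Fin.pos j)
    let σ : Fin (Nat.find hex - 1) → Fin (Nat.find hex) := fun i => Fin.cast e ((Fin.cast e.symm j).succAbove i)
    refine ⟨a * c j, m ∘ σ, hj, fun b => ?_⟩
    obtain ⟨k, d, hd⟩ := hm b
    refine ⟨k + 1, fun i => c j ^ k * a * (c j * d (σ i) - d j * c (σ i)), ?_⟩
    have key : (c j ^ k * a) • (c j • (a ^ k • b - ∑ i, d i • m i) + d j • ∑ i, c i • m i) ∈ J :=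
      J.smul_of_tower_mem _ (J.add_mem (J.smul_of_tower_mem _ hd) (J.smul_of_tower_mem _ hc))
    have hsum : ∀ g : Fin (Nat.find hex) → A, ∑ i, g i • m i =
        g j • m j + ∑ i, g (σ i) • m (σ i) := fun g => by
      rw [← (finCongr e).sum_comp (fun i => g i • m i), Fin.sum_univ_succAbove _ (Fin.cast e.symm j)]
      simp [σ, finCongr]
    convert key using 1
    rw [hsum d, hsum c]
    simp only [smul_add, smul_sub, sub_smul, Finset.smul_sum, smul_smul, Function.comp_apply, mul_sub,
      Finset.sum_sub_distrib, pow_succ, mul_pow]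
    simp only [mul_comm, mul_assoc, mul_left_comm]
    abel
  obtain ⟨q, β, hβ⟩ := Module.Finite.exists_fin (R := A) (M := B)
  choose k c hk using fun l => hm (β l)
  refine ⟨a, ha, Finset.univ.image fun l => a ^ k l • β l - ∑ i, c l i • m i, ?_, fun P hP haP hsP x hx => ?_⟩
  · intro g hg
    obtain ⟨l, -, rfl⟩ := Finset.mem_image.1 hg
    exact hk l
  have hg : ∀ l, a ^ k l • β l - ∑ i, c l i • m i ∈ P := fun l =>
    hsP (Finset.mem_image_of_mem _ (Finset.mem_univ l))
  obtain ⟨w, hw⟩ := (Submodule.mem_span_range_iff_exists_fun A).1 (hβ.ge (Submodule.mem_top (x := x)))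
  let N := ∑ l, k l
  let v : Fin q → A := fun l => a ^ (N - k l) * w l
  let d : Fin (Nat.find hex) → A := fun i => ∑ l, v l * c l i
  have hN : a ^ N • x = ∑ l, v l • (a ^ k l • β l - ∑ i, c l i • m i) + ∑ i, d i • m i := by
    have h1 : ∀ l, v l * a ^ k l = a ^ N * w l := fun l => by
      have hle : k l ≤ N := Finset.single_le_sum (fun i _ => Nat.zero_le (k i)) (Finset.mem_univ l)
      rw [mul_right_comm, ← pow_add, Nat.sub_add_cancel hle]
    simp only [smul_sub, Finset.smul_sum, smul_smul, Finset.sum_sub_distrib, d, Finset.sum_smul, h1]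
    rw [Finset.sum_comm (γ := Fin (Nat.find hex)), sub_add_cancel, ← hw, Finset.smul_sum]
    simp only [smul_smul]
  have hgJ : ∑ l, v l • (a ^ k l • β l - ∑ i, c l i • m i) ∈ J :=
    J.sum_mem fun l _ => J.smul_of_tower_mem _ (hk l)
  have hd : ∑ i, d i • m i ∈ J := by
    have := J.sub_mem (J.smul_of_tower_mem (a ^ N) hx) hgJ
    rwa [hN, add_sub_cancel_left] at this
  have hmP : ∀ i, a • (d i • m i) ∈ P := fun i => by
    obtain ⟨t, ht⟩ := hrel d hd i
    rw [smul_smul, Algebra.smul_def]
    refine P.mul_mem_right _ (hP.mem_of_pow_mem t ?_)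
    rw [← map_pow, ht, map_zero]; exact P.zero_mem
  have hfin : a • (a ^ N • x) ∈ P := by
    rw [hN, smul_add, Finset.smul_sum (s := Finset.univ) (f := fun i => d i • m i)]
    exact P.add_mem (P.smul_of_tower_mem _ (P.sum_mem fun l _ => P.smul_of_tower_mem _ (hg l)))
      (P.sum_mem fun i _ => hmP i)
  rw [smul_smul, ← pow_succ', Algebra.smul_def, map_pow] at hfin
  exact (hP.mem_or_mem hfin).resolve_left fun h => haP (hP.mem_of_pow_mem _ h)

end Groth.Agent.DenseFinite
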